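import Mathlib
import Cfsg.Agent.FP3.Defs

/-!
# The product case of the O'Nan-Scott theorem: the coordinate subgroups are maximal invariant subgroups (helper94)
-/

set_option autoImplicit false

namespace Cfsg.Agent.FP3.Red

open MulAction Subgroup

theorem factor_fixed {T ι : Type*} [Group T] [Finite T] [IsSimpleGroup T] [DecidableEq ι] (hna : ¬ IsMulCommutative T)
    (α : MulAut (ι → T)) (i : ι) {b : T} (hb : α (Pi.mulSingle i b) i ≠ 1) :
    ∃ σ : MulAut T, ∀ t, α (Pi.mulSingle i t) = Pi.mulSingle i (σ t) := by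
  let f : ι → T →* T := fun j =>
    (Pi.evalMonoidHom (fun _ => T) j).comp (α.toMonoidHom.comp (MonoidHom.mulSingle (fun _ => T) i))
  have hf : ∀ j t, f j t = α (Pi.mulSingle i t) j := fun _ _ => rfl
  have hinj : Function.Injective (f i) := by
    rw [← MonoidHom.ker_eq_bot_iff]
    refine (inferInstance : (f i).ker.Normal).eq_bot_or_eq_top.resolve_right fun h => hb ?_
    have h1 : b ∈ (f i).ker := by rw [h]; exact mem_top b
    exact h1
  have hbij : Function.Bijective (f i) := Finite.injective_iff_bijective.1 hinj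
  obtain ⟨a, s, has⟩ : ∃ a s : T, a * s ≠ s * a := by
    by_contra hcon
    push Not at hcon
    exact hna ⟨⟨hcon⟩⟩
  obtain ⟨t, rfl⟩ := hbij.2 a
  set u := α.symm (Pi.mulSingle i s) with hu
  set w := t * u i * t⁻¹ * (u i)⁻¹ with hw
  have h1 : (Pi.mulSingle i w : ι → T) = Pi.mulSingle i t * u * (Pi.mulSingle i t)⁻¹ * u⁻¹ := by
    funext j
    by_cases hj : j = i
    · subst hj
      simp [hw]
    · simp [Pi.mulSingle_eq_of_ne hj]
  have h2 : ∀ j, f j w = f j t * (Pi.mulSingle i s : ι → T) j * (f j t)⁻¹ * ((Pi.mulSingle i s : ι → T) j)⁻¹ := by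
    intro j
    rw [hf, h1, map_mul, map_mul, map_mul, map_inv, map_inv, hu, MulEquiv.apply_symm_apply]
    rfl
  have h3 : w ≠ 1 := by
    intro h
    have h4 := h2 i
    rw [h, map_one, Pi.mulSingle_eq_same, eq_comm, mul_inv_eq_one, mul_inv_eq_iff_eq_mul] at h4
    exact has h4
  refine ⟨MulEquiv.ofBijective (f i) hbij, fun t' => funext fun j => ?_⟩
  by_cases hj : j = i
  · subst hj
    rw [Pi.mulSingle_eq_same]
    rfl
  · rw [Pi.mulSingle_eq_of_ne hj]
    have h4 : w ∈ (f j).ker := by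
      rw [MonoidHom.mem_ker, h2, Pi.mulSingle_eq_of_ne hj]
      simp
    rcases (inferInstance : (f j).ker.Normal).eq_bot_or_eq_top with h | h
    · rw [h, mem_bot] at h4
      exact absurd h4 h3
    · have h5 : t' ∈ (f j).ker := by rw [h]; exact mem_top _
      exact h5

theorem exists_MI {G T ι : Type*} [Group G] [Group T] [Finite T] [IsSimpleGroup T] [DecidableEq ι]
    (hna : ¬ IsMulCommutative T) {N : Subgroup G} [hN : N.Normal]
    (hmin : ∀ M : Subgroup G, M.Normal → M ≤ N → M = ⊥ ∨ M = N) (K : Subgroup G)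
    (hKN : ∀ g : G, ∃ n ∈ N, g * n ∈ K) (hne : K ⊓ N ≠ ⊥)
    (hmax : ∀ X ≤ N, K ⊓ N ≤ X → K ≤ normalizer (X : Set G) → X = K ⊓ N ∨ X = N) (e : N ≃* (ι → T))
    (L : ι → Subgroup T) (hLtop : ∀ i, L i ≠ ⊤) (hL : ∀ n : N, (n : G) ∈ K ↔ ∀ i, e n i ∈ L i) (i : ι) :
    ∃ Γ : Subgroup (MulAut T), MI (L i) Γ := by
  let Γ : Subgroup (MulAut T) :=
    { carrier := {σ | ∃ k ∈ K, ∀ t, MulAut.conjNormal k (e.symm (Pi.mulSingle i t)) = e.symm (Pi.mulSingle i (σ t))}
      one_mem' := ⟨1, K.one_mem, fun t => by rw [map_one]; rfl⟩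
      mul_mem' := by
        rintro σ τ ⟨k, hk, hσ⟩ ⟨l, hl, hτ⟩
        exact ⟨k * l, K.mul_mem hk hl, fun t => by rw [map_mul, MulAut.mul_apply, hτ, hσ, MulAut.mul_apply]⟩
      inv_mem' := by
        rintro σ ⟨k, hk, hσ⟩
        refine ⟨k⁻¹, K.inv_mem hk, fun t => ?_⟩
        have h1 := hσ (σ⁻¹ t)
        rw [MulAut.apply_inv_self] at h1
        rw [← h1, map_inv, MulAut.inv_apply_self] }
  have hsingle : ∀ a : T, ((e.symm (Pi.mulSingle i a) : N) : G) ∈ K ↔ a ∈ L i := by
    intro a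
    rw [hL, MulEquiv.apply_symm_apply]
    constructor
    · intro h
      have h1 := h i
      rwa [Pi.mulSingle_eq_same] at h1
    · intro h j
      by_cases hj : j = i
      · subst hj
        rwa [Pi.mulSingle_eq_same]
      · rw [Pi.mulSingle_eq_of_ne hj]
        exact one_mem _
  have hcjK : ∀ k ∈ K, ∀ n : N, ((MulAut.conjNormal k n : N) : G) ∈ K ↔ (n : G) ∈ K := by
    intro k hk n
    rw [MulAut.conjNormal_apply, K.mul_mem_cancel_right (K.inv_mem hk), K.mul_mem_cancel_left hk]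
  have hinv : ∀ σ ∈ Γ, ∀ a : T, σ a ∈ L i ↔ a ∈ L i := by
    rintro σ ⟨k, hk, hσ⟩ a
    rw [← hsingle, ← hσ, hcjK k hk, hsingle]
  -- the `K`-invariant subgroup defined by a subgroup of the `i`-th factor
  let X : Subgroup T → Subgroup N := fun B =>
    { carrier := {n | ∀ k ∈ K, e (MulAut.conjNormal k n) i ∈ B}
      one_mem' := fun k _ => by rw [map_one, map_one]; exact B.one_mem
      mul_mem' := fun {a b} ha hb k hk => by rw [map_mul, map_mul]; exact B.mul_mem (ha k hk) (hb k hk)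
      inv_mem' := fun {a} ha k hk => by rw [map_inv, map_inv]; exact B.inv_mem (ha k hk) }
  have hXmem : ∀ (B : Subgroup T) (n : N), (n : G) ∈ (X B).map N.subtype ↔ ∀ k ∈ K, e (MulAut.conjNormal k n) i ∈ B := by
    intro B n
    constructor
    · rintro ⟨y, hy, hyn⟩
      have h1 : y = n := Subtype.ext hyn
      rw [← h1]
      exact hy
    · intro h
      exact ⟨n, h, rfl⟩
  have hXK : ∀ B : Subgroup T, L i ≤ B → K ⊓ N ≤ (X B).map N.subtype := by
    intro B hB x hx
    exact (hXmem B ⟨x, hx.2⟩).2 fun k hk => hB ((hL _).1 ((hcjK k hk _).2 hx.1) i)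
  have hXtop : ∀ B : Subgroup T, (X B).map N.subtype = N → B = ⊤ := by
    intro B h
    rw [eq_top_iff]
    intro t _
    have h1 : ((e.symm (Pi.mulSingle i t) : N) : G) ∈ (X B).map N.subtype := by
      rw [h]
      exact (e.symm (Pi.mulSingle i t)).2
    have h2 := (hXmem B _).1 h1 1 K.one_mem
    rwa [map_one, MulAut.one_apply, MulEquiv.apply_symm_apply, Pi.mulSingle_eq_same] at h2
  have hmaxB : ∀ B : Subgroup T, L i ≤ B → (∀ σ ∈ Γ, ∀ b ∈ B, σ b ∈ B) → B = L i ∨ B = ⊤ := by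
    intro B hB hΓ
    rcases hmax ((X B).map N.subtype) (map_subtype_le _) (hXK B hB) (by
      rw [le_normalizer_iff]
      rintro k hk _ ⟨n, hn, rfl⟩
      refine ⟨MulAut.conjNormal k n, fun l hl => ?_, MulAut.conjNormal_apply _ _⟩
      rw [← MulAut.mul_apply, ← map_mul]
      exact hn _ (K.mul_mem hl hk)) with h | h
    · left
      refine le_antisymm (fun b hb => ?_) hB
      rw [← hsingle]
      have h1 : ((e.symm (Pi.mulSingle i b) : N) : G) ∈ (X B).map N.subtype := by
        rw [hXmem]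
        intro k hk
        by_cases h2 : e (MulAut.conjNormal k (e.symm (Pi.mulSingle i b))) i = 1
        · rw [h2]
          exact B.one_mem
        · obtain ⟨σ, hσ⟩ := factor_fixed hna ((e.symm.trans (MulAut.conjNormal k : MulAut N)).trans e) i h2
          have h3 : ∀ t, e (MulAut.conjNormal k (e.symm (Pi.mulSingle i t))) = Pi.mulSingle i (σ t) := hσ
          rw [h3, Pi.mulSingle_eq_same]
          exact hΓ σ ⟨k, hk, fun t => by rw [← h3, MulEquiv.symm_apply_apply]⟩ b hb
      rw [h] at h1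
      exact h1.1
    · exact Or.inr (hXtop B h)
  have hbot : L i ≠ ⊥ := by
    intro h
    rcases hmin ((X ⊥).map N.subtype) ⟨by
      rintro _ ⟨x, hx, rfl⟩ g
      obtain ⟨n, hn, hgn⟩ := hKN g
      refine ⟨MulAut.conjNormal g x, fun k hk => ?_, MulAut.conjNormal_apply _ _⟩
      have h1 : MulAut.conjNormal k (MulAut.conjNormal g x) = (MulAut.conjNormal (k * (g * n)) (⟨n, hn⟩ : N))⁻¹ *
          MulAut.conjNormal (k * (g * n)) x * MulAut.conjNormal (k * (g * n)) (⟨n, hn⟩ : N) := by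
        apply Subtype.ext
        simp only [MulAut.conjNormal_apply, coe_mul, coe_inv]
        group
      have h2 := mem_bot.1 (hx _ (K.mul_mem hk hgn))
      rw [h1, map_mul, map_mul, map_inv, Pi.mul_apply, Pi.mul_apply, h2, mul_one, Pi.inv_apply, inv_mul_cancel]
      exact one_mem _⟩ (map_subtype_le _) with h1 | h1
    · exact hne (eq_bot_iff.2 (h1 ▸ hXK ⊥ h.le))
    · exact bot_ne_top (hXtop ⊥ h1)
  have hconj1 : ∀ a ∈ L i, MulAut.conj a ∈ Γ := by
    intro a ha
    refine ⟨_, (hsingle a).2 ha, fun t => ?_⟩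
    have h1 : ∀ x y : N, MulAut.conjNormal (x : G) y = x * y * x⁻¹ := fun x y => Subtype.ext (MulAut.conjNormal_apply _ _)
    rw [h1, ← map_mul, ← map_inv, ← map_mul, ← Pi.mulSingle_mul, ← Pi.mulSingle_inv, ← Pi.mulSingle_mul]
    rfl
  refine ⟨Γ, hmaxB, hLtop i, hbot, fun a => ⟨fun ha => ?_, hconj1 a⟩, hinv⟩
  rcases hmaxB (Γ.comap (MulAut.conj : T →* MulAut T)) hconj1 (by
    intro σ hσ b hb
    have h1 : MulAut.conj (σ b) = σ * MulAut.conj b * σ⁻¹ := by
      ext x
      simp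
    rw [mem_comap, h1]
    exact Γ.mul_mem (Γ.mul_mem hσ hb) (Γ.inv_mem hσ)) with h | h
  · rw [← h]
    exact ha
  · exfalso
    have h1 : (L i).Normal := ⟨fun n hn g => by
      have h2 : g ∈ Γ.comap (MulAut.conj : T →* MulAut T) := by rw [h]; exact mem_top g
      exact (hinv _ h2 n).2 hn⟩
    rcases h1.eq_bot_or_eq_top with h2 | h2
    · exact hbot h2
    · exact hLtop i h2

end Cfsg.Agent.FP3.Red
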