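import Mathlib
import Cfsg.Agent.FP3.Red.MI
import Cfsg.Agent.FP3.Red.RegA

/-!
# The O'Nan-Scott assembly (helper94)
-/

set_option autoImplicit false

namespace Cfsg.Agent.FP3

open MulAction Subgroup

namespace Red

theorem regular_core (hA : Aff) (hR : Reg) (N H : Type) [inst : Group N] [Finite N] [Group H] [Finite H] [Nontrivial H]
    [act : MulDistribMulAction H N] [fa : FaithfulSMul H N]
    (hirr : ∀ W : Subgroup N, (∀ (h : H), ∀ w ∈ W, h • w ∈ W) → W = ⊥ ∨ W = ⊤) :
    ∃ h : H, Nat.card (fixedBy N h) ^ 3 ≤ Nat.card N := by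
  by_cases hc : IsMulCommutative N
  · exact @hA N H { inst with mul_comm := hc.is_comm.comm } _ _ _ _ act fa hirr
  · exact hR N H hc hirr

section

variable {G Ω : Type*} [Group G] [MulAction G Ω] {N : Subgroup G}

theorem smul_eq_iff (ω : Ω) (a b : G) : a • ω = b • ω ↔ a⁻¹ * b ∈ stabilizer G ω := by
  rw [mem_stabilizer_iff, mul_smul, inv_smul_eq_iff, eq_comm]

theorem case_prod {T ι : Type*} [Group T] [Finite T] [Fintype ι] [Finite Ω] (e : N ≃* (ι → T))
    (htr : IsPretransitive N Ω) (ω : Ω) (L : ι → Subgroup T)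
    (hL : ∀ n : N, (n : G) ∈ stabilizer G ω ↔ ∀ i, e n i ∈ L i) (hgood : ∀ i, Good (L i)) :
    ∃ g ∈ stabilizer G ω, Nat.card (fixedBy Ω g) ^ 3 ≤ Nat.card Ω := by
  choose a ha hfx using hgood
  have heq : ∀ x y : N, (x : G) • ω = (y : G) • ω ↔ ∀ i, ((e x i : T) : T ⧸ L i) = e y i := by
    intro x y
    rw [smul_eq_iff, ← coe_inv, ← coe_mul, hL]
    simp only [map_mul, map_inv, Pi.mul_apply, Pi.inv_apply, QuotientGroup.eq]
  refine ⟨(e.symm a : N), by rw [hL, MulEquiv.apply_symm_apply]; exact ha, ?_⟩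
  choose n hn using fun x => htr.exists_smul_eq ω x
  have hn' : ∀ x, ((n x : N) : G) • ω = x := hn
  have h1 : Nat.card (fixedBy Ω ((e.symm a : N) : G)) ≤ ∏ i, fx (L i) (a i) := by
    unfold fx
    rw [← Nat.card_pi]
    refine Nat.card_le_card_of_injective (fun x i => ⟨((e (n x) i : T) : T ⧸ L i), ?_⟩) ?_
    · have h2 : ((e.symm a * n x : N) : G) • ω = (n x : G) • ω := by
        rw [coe_mul, mul_smul, hn']
        exact x.2
      have h3 := (heq _ _).1 h2 i
      rw [map_mul, MulEquiv.apply_symm_apply] at h3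
      exact h3
    · intro x y hxy
      apply Subtype.ext
      rw [← hn' x, ← hn' y, heq]
      exact fun i => congrArg Subtype.val (congrFun hxy i)
  have h2 : ∏ i, (L i).index ≤ Nat.card Ω := by
    unfold Subgroup.index
    rw [← Nat.card_pi]
    refine Nat.card_le_card_of_injective (fun q => ((e.symm fun i => (q i).out : N) : G) • ω) ?_
    intro q r hqr
    have h3 := (heq _ _).1 hqr
    funext i
    have h4 := h3 i
    rwa [MulEquiv.apply_symm_apply, MulEquiv.apply_symm_apply, QuotientGroup.out_eq', QuotientGroup.out_eq'] at h4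
  calc _ ≤ (∏ i, fx (L i) (a i)) ^ 3 := Nat.pow_le_pow_left h1 3
    _ = ∏ i, fx (L i) (a i) ^ 3 := (Finset.prod_pow _ _ _).symm
    _ ≤ ∏ i, (L i).index := Finset.prod_le_prod' fun i _ => hfx i
    _ ≤ Nat.card Ω := h2

theorem case_diag {T ι κ : Type*} [Group T] [Finite T] [Finite ι] [Finite Ω] (e : N ≃* (ι → T))
    (htr : IsPretransitive N Ω) (ω : Ω) (c : ι → κ)
    (hK : ∀ n : N, (n : G) ∈ stabilizer G ω ↔ ∀ i j, c i = c j → e n i = e n j) (hcent : CentRow T) :
    ∃ g ∈ stabilizer G ω, Nat.card (fixedBy Ω g) ^ 3 ≤ Nat.card Ω := by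
  classical
  obtain ⟨t, ht⟩ := hcent
  let r : ι → ι := fun i => Classical.choose (⟨i, rfl⟩ : ∃ j, c j = c i)
  have hr : ∀ i, c (r i) = c i := fun i => Classical.choose_spec (⟨i, rfl⟩ : ∃ j, c j = c i)
  have hr2 : ∀ i j, c i = c j → r i = r j := by
    intro i j hij
    simp only [r, hij]
  have heq : ∀ x y : N, (x : G) • ω = (y : G) • ω ↔ ∀ i, e x i * (e x (r i))⁻¹ = e y i * (e y (r i))⁻¹ := by
    intro x y
    rw [smul_eq_iff, ← coe_inv, ← coe_mul, hK]
    simp only [map_mul, map_inv, Pi.mul_apply, Pi.inv_apply]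
    have key : ∀ a b a' b' : T, a * b⁻¹ = a' * b'⁻¹ ↔ a⁻¹ * a' = b⁻¹ * b' := by
      intro a b a' b'
      constructor
      · intro h
        calc a⁻¹ * a' = a⁻¹ * (a' * b'⁻¹) * b' := by group
          _ = b⁻¹ * b' := by rw [← h]; group
      · intro h
        calc a * b⁻¹ = a * (b⁻¹ * b') * b'⁻¹ := by group
          _ = a' * b'⁻¹ := by rw [← h]; group
    simp only [key]
    constructor
    · intro h i
      exact h i (r i) (hr i).symm
    · intro h i j hij
      rw [h i, h j, hr2 i j hij]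
  refine ⟨(e.symm fun _ => t : N), by rw [hK, MulEquiv.apply_symm_apply]; exact fun _ _ _ => rfl, ?_⟩
  choose n hn using fun x => htr.exists_smul_eq ω x
  have hn' : ∀ x, ((n x : N) : G) • ω = x := hn
  have h1 : Nat.card (fixedBy Ω ((e.symm fun _ => t : N) : G)) ≤
      Nat.card (centralizer ({t} : Set T)) ^ Nat.card {i // r i ≠ i} := by
    rw [← Nat.card_fun]
    refine Nat.card_le_card_of_injective (fun x i => ⟨e (n x) i * (e (n x) (r i))⁻¹, ?_⟩) ?_
    · have h2 : (((e.symm fun _ => t) * n x : N) : G) • ω = (n x : G) • ω := by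
        rw [coe_mul, mul_smul, hn']
        exact x.2
      have h3 := (heq _ _).1 h2 i
      rw [map_mul, MulEquiv.apply_symm_apply, Pi.mul_apply, Pi.mul_apply] at h3
      rw [mem_centralizer_singleton_iff, ← h3]
      nth_rewrite 2 [h3]
      group
    · intro x y hxy
      apply Subtype.ext
      rw [← hn' x, ← hn' y, heq]
      intro i
      by_cases hi : r i = i
      · rw [hi, mul_inv_cancel, mul_inv_cancel]
      · exact congrArg Subtype.val (congrFun hxy ⟨i, hi⟩)
  have h2 : Nat.card T ^ Nat.card {i // r i ≠ i} ≤ Nat.card Ω := by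
    rw [← Nat.card_fun]
    refine Nat.card_le_card_of_injective
      (fun z => ((e.symm fun i => if h : r i = i then 1 else z ⟨i, h⟩ : N) : G) • ω) ?_
    intro z w hzw
    have h3 := (heq _ _).1 hzw
    funext i
    have h4 := h3 i
    have h5 : r (r i) = r i := hr2 _ _ (hr i)
    rw [MulEquiv.apply_symm_apply, MulEquiv.apply_symm_apply] at h4
    simp only [dif_neg i.2, dif_pos h5, inv_one, mul_one] at h4
    exact h4
  calc _ ≤ (Nat.card (centralizer ({t} : Set T)) ^ Nat.card {i // r i ≠ i}) ^ 3 := Nat.pow_le_pow_left h1 3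
    _ = (Nat.card (centralizer ({t} : Set T)) ^ 3) ^ Nat.card {i // r i ≠ i} := by
      rw [← pow_mul, ← pow_mul, mul_comm]
    _ ≤ Nat.card T ^ Nat.card {i // r i ≠ i} := Nat.pow_le_pow_left ht _
    _ ≤ Nat.card Ω := h2

end

theorem main_zero (hA : Aff) (hR : Reg) (hC : Cent) (hAS : AS) {G : Type} [Group G] [Finite G] {Ω : Type} [Finite Ω]
    [MulAction G Ω] [FaithfulSMul G Ω] [hprim : IsPreprimitive G Ω] (ω : Ω) (hω : stabilizer G ω ≠ ⊥) :
    ∃ g ∈ stabilizer G ω, Nat.card (fixedBy Ω g) ^ 3 ≤ Nat.card Ω := by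
  classical
  set K := stabilizer G ω with hK
  have hKnt : Nontrivial K := (nontrivial_iff_ne_bot K).2 hω
  have hGnt : Nontrivial G := K.subtype_injective.nontrivial
  have hfix : ∀ g : G, (∀ x : Ω, g • x = x) → g = 1 := fun g hg =>
    FaithfulSMul.eq_of_smul_eq_smul (α := Ω) fun x => by rw [hg, one_smul]
  have hΩ : Nontrivial Ω := by
    by_contra hcon
    rw [not_nontrivial_iff_subsingleton] at hcon
    obtain ⟨g, hg⟩ := exists_ne (1 : G)
    exact hg (hfix g fun x => Subsingleton.elim _ _)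
  obtain ⟨N, hN, hNne, hmin⟩ := exists_min_normal' (G := G)
  have htr : IsPretransitive N Ω := by
    apply IsQuasiPreprimitive.isPretransitive_of_normal
    intro h
    apply hNne
    rw [eq_bot_iff]
    intro x hx
    refine mem_bot.2 (hfix x fun y => ?_)
    have hy : y ∈ fixedPoints N Ω := by rw [h]; exact Set.mem_univ y
    exact hy ⟨x, hx⟩
  have hcen : ∀ k ∈ K, (∀ n ∈ N, k * n = n * k) → k = 1 := by
    intro k hk h
    refine hfix k fun x => ?_
    obtain ⟨n, rfl⟩ := htr.exists_smul_eq ω x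
    change k • ((n : G) • ω) = (n : G) • ω
    rw [← mul_smul, h n n.2, mul_smul, mem_stabilizer_iff.1 hk]
  have hmax : ∀ X ≤ N, K ⊓ N ≤ X → K ≤ normalizer (X : Set G) → X = K ⊓ N ∨ X = N := by
    intro X hX hKX hinv
    have hco : IsCoatom K := IsPreprimitive.isCoatom_stabilizer_of_isPreprimitive G ω
    rcases hco.le_iff.mp (le_sup_left : K ≤ K ⊔ X) with h | h
    · right
      apply le_antisymm hX
      intro n hn
      have hn' : n ∈ ((K ⊔ X : Subgroup G) : Set G) := by
        rw [h]; exact Set.mem_univ _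
      rw [Subgroup.coe_mul_of_left_le_normalizer_right _ _ hinv] at hn'
      obtain ⟨k, hk, x, hx, rfl⟩ := hn'
      have hkN : k ∈ N := by
        have := N.mul_mem hn (N.inv_mem (hX hx))
        simpa using this
      exact X.mul_mem (hKX ⟨hk, hkN⟩) hx
    · left
      apply le_antisymm _ hKX
      exact le_inf (by rw [← h]; exact le_sup_right) hX
  by_cases hreg : K ⊓ N = ⊥
  · -- the regular case
    let act : MulDistribMulAction K N :=
      MulDistribMulAction.compHom N ((MulAut.conjNormal (H := N)).comp K.subtype)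
    have hsm : ∀ (k : K) (n : N), ((k • n : N) : G) = k * n * (k : G)⁻¹ := fun k n => MulAut.conjNormal_apply _ _
    have fa : FaithfulSMul K N := ⟨fun {k l} h => by
      apply Subtype.ext
      rw [← mul_inv_eq_one.1 (show (l : G) * (l : G)⁻¹ = 1 from mul_inv_cancel _), eq_comm, ← inv_mul_eq_one]
      apply hcen _ (K.mul_mem (K.inv_mem l.2) k.2)
      intro n hn
      have h1 := congrArg Subtype.val (h ⟨n, hn⟩)
      rw [hsm, hsm] at h1
      calc (l : G)⁻¹ * k * n = (l : G)⁻¹ * (k * n * (k : G)⁻¹) * k := by group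
        _ = n * ((l : G)⁻¹ * k) := by rw [h1]; group⟩
    obtain ⟨h, hh⟩ := regular_core hA hR N K (by
      intro W hW
      rcases hmax (W.map N.subtype) (map_subtype_le W) (by rw [hreg]; exact bot_le) (by
        rw [le_normalizer_iff]
        rintro k hk _ ⟨w, hw, rfl⟩
        exact ⟨_, hW ⟨k, hk⟩ w hw, hsm _ _⟩) with h1 | h1
      · left
        rwa [hreg, Subgroup.map_eq_bot_iff_of_injective _ N.subtype_injective] at h1
      · right
        apply map_injective N.subtype_injective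
        rw [h1, ← MonoidHom.range_eq_map, range_subtype])
    have hinj : ∀ x y : N, (x : G) • ω = (y : G) • ω → x = y := by
      intro x y hxy
      rw [smul_eq_iff] at hxy
      have h1 : (x : G)⁻¹ * y ∈ K ⊓ N := ⟨hxy, (x⁻¹ * y : N).2⟩
      rw [hreg, mem_bot, inv_mul_eq_one] at h1
      exact Subtype.ext h1
    refine ⟨h, h.2, ?_⟩
    choose n hn using fun x => htr.exists_smul_eq ω x
    have hn' : ∀ x, ((n x : N) : G) • ω = x := hn
    have h1 : Nat.card (fixedBy Ω (h : G)) ≤ Nat.card (fixedBy N h) := by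
      refine Nat.card_le_card_of_injective (fun x => ⟨n x, ?_⟩) ?_
      · apply hinj
        rw [hsm, mul_smul, mul_smul, mem_stabilizer_iff.1 (K.inv_mem h.2), hn']
        exact x.2
      · intro x y hxy
        apply Subtype.ext
        rw [← hn' x, ← hn' y]
        exact congrArg (fun z : fixedBy N h => ((z : N) : G) • ω) hxy
    have h2 : Nat.card N ≤ Nat.card Ω := Nat.card_le_card_of_injective (fun n : N => (n : G) • ω) hinj
    exact ((Nat.pow_le_pow_left h1 3).trans hh).trans h2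
  · have hna : ¬ ∀ x ∈ N, ∀ y ∈ N, Commute x y := by
      intro h
      apply hreg
      rw [eq_bot_iff]
      intro k hk
      exact mem_bot.2 (hcen k hk.1 fun n hn => h k hk.2 n hn)
    have hKN : ∀ g : G, ∃ n ∈ N, g * n ∈ K := by
      intro g
      obtain ⟨n, hn⟩ := htr.exists_smul_eq ω (g⁻¹ • ω)
      refine ⟨n, n.2, ?_⟩
      rw [hK, mem_stabilizer_iff, mul_smul]
      change g • (n • ω) = ω
      rw [hn, smul_inv_smul]
    have hNK : ¬ N ≤ K := by
      intro h
      obtain ⟨x, hx⟩ := exists_ne ω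
      obtain ⟨n, hn⟩ := htr.exists_smul_eq ω x
      exact hx (hn.symm.trans (h n.2))
    obtain ⟨T, hT, m, e, hTs, hTna, hm, hcase⟩ :=
      PermutationGroups.OnanScott.onan_scott N hmin hna K hKN hNK hmax
    have hTfin : Finite T := by
      have hfin : Finite (Fin m → T) := Finite.of_equiv N e.toEquiv
      exact Finite.of_surjective (fun f : Fin m → T => f ⟨0, hm⟩) fun t => ⟨fun _ => t, rfl⟩
    rcases hcase with ⟨L, hLtop, hL⟩ | ⟨k, c, -, -, hc⟩
    · refine case_prod e htr ω L hL fun i => ?_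
      obtain ⟨Γ, hΓ⟩ := exists_MI hTna hmin K hKN hreg hmax e L hLtop hL i
      exact hAS T hTna (L i) Γ hΓ
    · exact case_diag e htr ω c hc (hC T hTna)

end Red

/-- the O'Nan-Scott assembly -/
theorem main_of.{u, v} (hA : Aff) (hR : Reg) (hC : Cent) (hAS : AS) : Main.{u, v} := by
  intro G _ _ Ω _ _ _ hprim ⟨ω, hω⟩
  let ε : Ω ≃ Fin (Fintype.card Ω) := Fintype.equivFin Ω
  let φ : G →* Equiv.Perm (Fin (Fintype.card Ω)) := (ε.permCongrHom).toMonoidHom.comp (toPermHom G Ω)
  have hφ : ∀ (g : G) (x : Ω), φ g (ε x) = ε (g • x) := by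
    intro g x
    change ε (g • ε.symm (ε x)) = _
    rw [Equiv.symm_apply_apply]
  let f : Ω →ₑ[φ.rangeRestrict] Fin (Fintype.card Ω) := ⟨ε, fun g x => (hφ g x).symm⟩
  have hprim' : IsPreprimitive φ.range (Fin (Fintype.card Ω)) := IsPreprimitive.of_surjective (f := f) ε.surjective
  obtain ⟨⟨_, g, rfl⟩, hg, hfix⟩ := Red.main_zero hA hR hC hAS (G := φ.range) (ε ω) (by
    intro h
    apply hω
    rw [eq_bot_iff]
    intro g hg
    have h1 : φ.rangeRestrict g ∈ stabilizer φ.range (ε ω) := by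
      change φ g (ε ω) = ε ω
      rw [hφ, mem_stabilizer_iff.1 hg]
    rw [h, mem_bot] at h1
    have h2 : φ g = 1 := congrArg Subtype.val h1
    refine mem_bot.2 (FaithfulSMul.eq_of_smul_eq_smul (α := Ω) fun x => ε.injective ?_)
    rw [← hφ, h2, one_smul]
    rfl)
  have h1 : Nat.card (fixedBy Ω g) = Nat.card (fixedBy (Fin (Fintype.card Ω)) (⟨φ g, g, rfl⟩ : φ.range)) := by
    refine Nat.card_congr (ε.subtypeEquiv fun x => ?_)
    change g • x = x ↔ φ g (ε x) = ε x
    rw [hφ, ε.injective.eq_iff]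
  refine ⟨g, ?_, ?_⟩
  · have h2 : φ g (ε ω) = ε ω := hg
    rw [hφ, ε.injective.eq_iff] at h2
    have : Nonempty (fixedBy Ω g) := ⟨⟨ω, h2⟩⟩
    exact Nat.card_pos
  · rw [h1]
    simpa using hfix

end Cfsg.Agent.FP3
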