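import Cfsg.Agent.FP3.Red.RegB
import Cfsg.Agent.S0205

/-!
# Box EV from the odd order theorem; box REG (helper94)
-/

set_option autoImplicit false

namespace Cfsg.Agent.FP3

theorem ev : Ev := by
  intro T _ _ _ hna
  by_contra h
  have h1 : Group.IsSolvable T := S0205.result (by
    rw [← Nat.not_even_iff_odd, even_iff_two_dvd]
    exact h)
  exact hna ⟨⟨IsSimpleGroup.comm_iff_isSolvable.2 h1⟩⟩

theorem reg (hG : Gen) (hC : Cent) (hS : Sch) : Reg := reg_of_ev ev hG hC hS

end Cfsg.Agent.FP3
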