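import Cfsg.Agent.FP3.Defs
import Cfsg.Agent.S3938

/-!
# Box GEN from S3938 (helper94)
-/

set_option autoImplicit false

namespace Cfsg.Agent.FP3

open Subgroup

theorem gen : Gen := by
  intro T _ _ hT hna x hx
  obtain ⟨y, hy⟩ := S3938.result (⊤ : Subgroup T) (topEquiv.isSimpleGroup_congr.2 hT)
    (fun h => hna ⟨⟨fun a b => congrArg Subtype.val (h.is_comm.comm (⟨a, mem_top a⟩ : (⊤ : Subgroup T)) ⟨b, mem_top b⟩)⟩⟩)
    (by
      rw [coe_top, centralizer_univ]
      refine (inferInstance : (center T).Normal).eq_bot_or_eq_top.resolve_right fun h => hna ?_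
      exact ⟨⟨fun a b => (mem_center_iff.1 (by rw [h]; exact mem_top b) a)⟩⟩) x hx
  exact ⟨y, by rw [Set.pair_comm]; exact eq_top_iff.2 hy⟩

end Cfsg.Agent.FP3
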