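import Mathlib
import Cfsg.Agent.FP3.Red.RegA

/-!
# The regular non-abelian case, part 2 (helper94)
-/

set_option autoImplicit false

namespace Cfsg.Agent.FP3

open MulAction Subgroup Cfsg.Agent.PermutationGroups.OnanScott

namespace Red

theorem reg_in (hE : Ev) (hG : Gen) (hC : Cent) (hS : Sch) {G : Type} [Group G] [Finite G] (N H : Subgroup G) [hN : N.Normal]
    (hna : ¬ ∀ x ∈ N, ∀ y ∈ N, Commute x y) (hf : ∀ g : G, (∀ n ∈ N, Commute g n) → g = 1)
    (hirr : ∀ W ≤ N, (∀ h ∈ H, ∀ w ∈ W, h * w * h⁻¹ ∈ W) → W = ⊥ ∨ W = N) :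
    ∃ h ∈ H, Nat.card ↥(N ⊓ centralizer ({h} : Set G)) ^ 3 ≤ Nat.card N := by
  classical
  have hmin : ∀ M : Subgroup G, M.Normal → M ≤ N → M = ⊥ ∨ M = N := fun M hM hle =>
    hirr M hle fun h _ w hw => hM.conj_mem w hw h
  obtain ⟨m, T, e, hm, hsimple, hTna, hTinj, hTN, -, hconj, htrans, he, hcoord⟩ := exists_coordinates N hmin hna
  -- the action on the factors
  choose σ hσ using hconj
  let _ : MulAction G (Fin m) :=
    { smul := σ
      one_smul := fun i => hTinj (by
        change T (σ 1 i) = T i
        rw [hσ, map_one]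
        exact Subgroup.map_id _)
      mul_smul := fun g h i => hTinj (by
        change T (σ (g * h) i) = T (σ g (σ h i))
        rw [hσ, hσ, hσ, map_map, map_mul]
        rfl) }
  have hσ' : ∀ (g : G) (i : Fin m), T (g • i) = (T i).map (MulAut.conj g).toMonoidHom := hσ
  have hone : ∀ (k : G) (i : Fin m) (n : N), e (MulAut.conjNormal k n) (k • i) = 1 ↔ e n i = 1 := by
    intro k i n
    rw [hcoord, hcoord, hσ', MulAut.conjNormal_apply]
    constructor
    · intro h t ht
      have h1 := (h (k * t * k⁻¹) ⟨t, ht, rfl⟩).map (MulAut.conj k⁻¹)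
      simpa [mul_assoc] using h1
    · rintro h _ ⟨t, ht, rfl⟩
      exact (h t ht).map (MulAut.conj k)
  have heq : ∀ (k : G) (i : Fin m) (x y : N),
      e (MulAut.conjNormal k x) (k • i) = e (MulAut.conjNormal k y) (k • i) ↔ e x i = e y i := by
    intro k i x y
    have h := hone k i (x * y⁻¹)
    rw [map_mul, map_inv, map_mul, map_mul, map_inv, map_inv, Pi.mul_apply, Pi.mul_apply,
      Pi.inv_apply, Pi.inv_apply, mul_inv_eq_one, mul_inv_eq_one] at h
    exact h
  have hcardN : Nat.card N = ∏ i, Nat.card (T i) := by rw [Nat.card_congr e.toEquiv, Nat.card_pi]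
  -- `H` is not trivial
  have hH : Nontrivial H := by
    by_contra hcon
    rw [not_nontrivial_iff_subsingleton] at hcon
    apply hna
    intro x hx y hy
    rcases hirr (zpowers x) (zpowers_le.2 hx) (fun h hh w hw => by
      have h1 : h = 1 := congrArg Subtype.val (Subsingleton.elim (⟨h, hh⟩ : H) 1)
      rwa [h1, one_mul, inv_one, mul_one]) with h1 | h1
    · rw [zpowers_eq_bot.1 h1]
      exact Commute.one_left y
    · rw [← h1] at hy
      obtain ⟨k, rfl⟩ := hy
      exact (Commute.refl x).zpow_right k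
  obtain ⟨M, hM, hM1, hMmin⟩ := exists_min_normal' (G := H)
  have hMna := min_not_comm N H hna hf hirr M hM1 hMmin
  by_cases hA : ∀ x ∈ M, ∀ i : Fin m, (x : G) • i = i
  · -- `M` normalises all factors
    have hMperf : ⁅M, M⁆ = M := by
      rcases hMmin ⁅M, M⁆ inferInstance (commutator_le_left M M) with h | h
      · exfalso
        apply hMna
        intro x hx y hy
        have h1 := commutator_mem_commutator hx hy
        rw [h, mem_bot, commutatorElement_eq_one_iff_commute] at h1
        exact h1
      · exact h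
    set M' : Subgroup G := M.map H.subtype with hM'
    have hM'perf : ⁅M', M'⁆ = M' := by rw [hM', ← Subgroup.map_commutator, hMperf]
    have hM'top : ⁅(⊤ : Subgroup M'), (⊤ : Subgroup M')⁆ = ⊤ := by
      apply map_injective M'.subtype_injective
      rw [Subgroup.map_commutator, ← MonoidHom.range_eq_map, range_subtype, hM'perf]
    have hnorm : ∀ i, M' ≤ normalizer (T i : Set G) := by
      rintro i _ ⟨x, hx, rfl⟩
      rw [mem_normalizer_iff_map_conj_eq]
      have h1 := hσ' x i
      rw [hA x hx i] at h1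
      exact h1.symm
    have hinner : ∀ x ∈ M', ∀ i, ∃ s : T i, ∀ t ∈ T i, x * t * x⁻¹ = s * t * (s : G)⁻¹ := by
      intro x hx i
      let φ : M' →* MulAut (T i) := (T i).normalizerMonoidHom.comp (inclusion (hnorm i))
      have h1 := hS (T i) φ.range (by
        rw [MonoidHom.range_eq_map, ← Subgroup.map_commutator, hM'top])
      obtain ⟨s, hs⟩ := h1 ⟨⟨x, hx⟩, rfl⟩
      refine ⟨s, fun t ht => ?_⟩
      have h2 := congrArg Subtype.val (DFunLike.congr_fun hs (⟨t, ht⟩ : T i))
      exact h2.symm
    have hsing : ∀ (n : N) i (t : T i), (n : G) * t * (n : G)⁻¹ = (e n i * t * (e n i)⁻¹ : T i) := by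
      intro n i t
      rw [← he i t, ← he i (e n i * t * (e n i)⁻¹)]
      have h1 : n * e.symm (Pi.mulSingle i t) * n⁻¹ = e.symm (Pi.mulSingle i (e n i * t * (e n i)⁻¹)) := by
        apply e.injective
        rw [map_mul, map_mul, map_inv, MulEquiv.apply_symm_apply, MulEquiv.apply_symm_apply]
        funext j
        by_cases hj : j = i
        · subst hj
          simp
        · simp [Pi.mulSingle_eq_of_ne hj]
      exact congrArg Subtype.val h1
    have hM'N : M' ≤ N := by
      intro x hx
      choose s hs using hinner x hx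
      have h1 : ((e.symm s : N) : G)⁻¹ * x = 1 := by
        apply hf
        intro n hn
        let Z : Subgroup (∀ i, T i) :=
          (centralizer ({((e.symm s : N) : G)⁻¹ * x} : Set G)).comap (N.subtype.comp e.symm.toMonoidHom)
        have h2 : e ⟨n, hn⟩ ∈ Z := by
          apply pi_mem_of_mulSingle_mem
          intro i
          change ((e.symm (Pi.mulSingle i (e ⟨n, hn⟩ i)) : N) : G) ∈ centralizer _
          rw [he, mem_centralizer_singleton_iff]
          set t := e ⟨n, hn⟩ i with ht
          have h3 := hsing (e.symm s) i t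
          rw [MulEquiv.apply_symm_apply] at h3
          have h4 : ((e.symm s : N) : G) * t * ((e.symm s : N) : G)⁻¹ = x * t * x⁻¹ := by
            rw [h3, hs i t t.2]
            rfl
          calc (t : G) * (((e.symm s : N) : G)⁻¹ * x)
              = ((e.symm s : N) : G)⁻¹ * (((e.symm s : N) : G) * t * ((e.symm s : N) : G)⁻¹) * x := by group
            _ = ((e.symm s : N) : G)⁻¹ * x * t := by rw [h4]; group
        have h3 : ((e.symm (e ⟨n, hn⟩) : N) : G) ∈ centralizer ({((e.symm s : N) : G)⁻¹ * x} : Set G) := h2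
        rw [MulEquiv.symm_apply_apply, mem_centralizer_singleton_iff] at h3
        exact h3.symm
      rw [inv_mul_eq_one] at h1
      rw [← h1]
      exact (e.symm s).2
    have hM'eq : M' = N := by
      refine (hirr M' hM'N ?_).resolve_left ?_
      · rintro h hh _ ⟨x, hx, rfl⟩
        exact ⟨_, hM.conj_mem x hx ⟨h, hh⟩, rfl⟩
      · rwa [hM', Subgroup.map_eq_bot_iff_of_injective _ H.subtype_injective]
    choose t ht using fun i => hC (T i) (not_comm_of_ne (hTna i))
    refine ⟨(e.symm t : N), map_subtype_le M (by rw [← hM', hM'eq]; exact (e.symm t).2), ?_⟩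
    have h1 : Nat.card ↥(N ⊓ centralizer ({((e.symm t : N) : G)} : Set G)) ≤
        ∏ i, Nat.card (centralizer ({t i} : Set (T i))) := by
      rw [← Nat.card_pi]
      refine Nat.card_le_card_of_injective (fun x i => ⟨e ⟨x, x.2.1⟩ i, ?_⟩) ?_
      · rw [mem_centralizer_singleton_iff]
        have h2 : (⟨x, x.2.1⟩ : N) * e.symm t = e.symm t * ⟨x, x.2.1⟩ :=
          Subtype.ext (mem_centralizer_singleton_iff.1 x.2.2)
        have h3 := congrFun (congrArg e h2) i
        rwa [map_mul, map_mul, MulEquiv.apply_symm_apply] at h3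
      · intro x y hxy
        have h2 : e ⟨x, x.2.1⟩ = e ⟨y, y.2.1⟩ := funext fun i => congrArg Subtype.val (congrFun hxy i)
        exact Subtype.ext (congrArg (fun n : N => (n : G)) (e.injective h2))
    calc _ ≤ (∏ i, Nat.card (centralizer ({t i} : Set (T i)))) ^ 3 := Nat.pow_le_pow_left h1 3
      _ = ∏ i, Nat.card (centralizer ({t i} : Set (T i))) ^ 3 := (Finset.prod_pow _ _ _).symm
      _ ≤ ∏ i, Nat.card (T i) := Finset.prod_le_prod' fun i _ => ht i
      _ = Nat.card N := hcardN.symm
  · -- `M` moves a factor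
    push Not at hA
    obtain ⟨x, hx, i0, hi0⟩ := hA
    have htr : IsPretransitive H (Fin m) := by
      refine ⟨fun i j => ?_⟩
      by_contra hcon
      push Not at hcon
      let W' : Subgroup N :=
        { carrier := {n | ∀ h : H, e n (h • i) = 1}
          one_mem' := fun h => by rw [map_one]; rfl
          mul_mem' := fun {a b} ha hb h => by rw [map_mul, Pi.mul_apply, ha h, hb h, one_mul]
          inv_mem' := fun {a} ha h => by rw [map_inv, Pi.inv_apply, ha h, inv_one] }
      rcases hirr (W'.map N.subtype) (map_subtype_le W') (by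
        rintro h hh _ ⟨n, hn, rfl⟩
        refine ⟨MulAut.conjNormal h n, fun k => ?_, MulAut.conjNormal_apply _ _⟩
        have h1 := (hone h (((⟨h, hh⟩⁻¹ * k : H)) • i) n).2 (hn _)
        have h2 : h • (((⟨h, hh⟩⁻¹ * k : H)) • i) = k • i := by
          change h • ((h⁻¹ * (k : G)) • i) = (k : G) • i
          rw [mul_smul, smul_inv_smul]
        rwa [h2] at h1) with h1 | h1
      · rw [Subgroup.map_eq_bot_iff_of_injective _ N.subtype_injective] at h1
        obtain ⟨t, ht⟩ := exists_ne (1 : T j)
        have h2 : e.symm (Pi.mulSingle j t) ∈ W' := by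
          intro h
          rw [MulEquiv.apply_symm_apply, Pi.mulSingle_eq_of_ne (hcon h)]
        rw [h1, mem_bot, EmbeddingLike.map_eq_one_iff] at h2
        have h3 := congrFun h2 j
        rw [Pi.mulSingle_eq_same] at h3
        exact ht h3
      · obtain ⟨t, ht⟩ := exists_ne (1 : T i)
        have h2 : ((e.symm (Pi.mulSingle i t) : N) : G) ∈ W'.map N.subtype := by
          rw [h1]
          exact (e.symm (Pi.mulSingle i t)).2
        obtain ⟨n, hn, hn'⟩ := h2
        have h3 : n = e.symm (Pi.mulSingle i t) := Subtype.ext hn'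
        have h4 := hn 1
        have h5 : ∀ k : Fin m, k = i → e n k = 1 → e n i = 1 := by
          rintro k rfl h
          exact h
        have h6 := h5 _ (one_smul H i) h4
        rw [h3, MulEquiv.apply_symm_apply, Pi.mulSingle_eq_same] at h6
        exact ht h6
    obtain ⟨g, -, hg⟩ := few_normal hE hG M hMmin hMna (δ0 := i0) ⟨x, hx, hi0⟩
    refine ⟨g, g.2, ?_⟩
    set π : Equiv.Perm (Fin m) := toPerm g with hπ
    have hq : ∀ i, Nat.card (T i) = Nat.card (T i0) := fun i => by
      obtain ⟨k, hk⟩ := htrans i i0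
      exact card_eq_of_conj hk
    have h1 : Nat.card ↥(N ⊓ centralizer ({(g : G)} : Set G)) ≤ Nat.card (T i0) ^ orb π := by
      have := Fintype.ofFinite (orbitRel.Quotient (zpowers π) (Fin m))
      have h2 : Nat.card (T i0) ^ orb π = Nat.card (∀ o : orbitRel.Quotient (zpowers π) (Fin m), T o.out) := by
        rw [Nat.card_pi, Finset.prod_congr rfl (fun o _ => hq _), Finset.prod_const, Finset.card_univ, orb,
          Nat.card_eq_fintype_card (α := orbitRel.Quotient (zpowers π) (Fin m))]
      rw [h2]
      refine Nat.card_le_card_of_injective (fun x o => e ⟨x, x.2.1⟩ o.out) ?_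
      intro a b hab
      have h3 : ∀ (c : ↥(N ⊓ centralizer ({(g : G)} : Set G))) (k : ℤ),
          MulAut.conjNormal ((g : G) ^ k) (⟨c, c.2.1⟩ : N) = ⟨c, c.2.1⟩ := by
        intro c k
        apply Subtype.ext
        rw [MulAut.conjNormal_apply, mul_inv_eq_iff_eq_mul]
        have h4 : Commute (c : G) g := mem_centralizer_singleton_iff.1 c.2.2
        exact (h4.zpow_right k).symm.eq
      have h4 : e ⟨a, a.2.1⟩ = e ⟨b, b.2.1⟩ := by
        funext i
        set o : orbitRel.Quotient (zpowers π) (Fin m) := Quotient.mk'' i with ho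
        have h5 : i ∈ orbit (zpowers π) o.out := by
          have h6 : (Quotient.mk'' i : orbitRel.Quotient (zpowers π) (Fin m)) = Quotient.mk'' o.out :=
            (Quotient.out_eq o).symm
          exact Quotient.exact h6
        obtain ⟨⟨_, k, rfl⟩, hk⟩ := h5
        have h6 : (g : G) ^ k • o.out = i := by
          rw [← hk]
          have h7 : π ^ k = toPerm (g ^ k) := (map_zpow (toPermHom H (Fin m)) g k).symm
          change _ = (π ^ k) o.out
          rw [h7]
          rfl
        have h7 := (heq ((g : G) ^ k) o.out ⟨a, a.2.1⟩ ⟨b, b.2.1⟩).2 (congrFun hab o)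
        rw [h3, h3] at h7
        have h8 : ∀ j : Fin m, j = i → e ⟨a, a.2.1⟩ j = e ⟨b, b.2.1⟩ j → e ⟨a, a.2.1⟩ i = e ⟨b, b.2.1⟩ i := by
          rintro j rfl h
          exact h
        exact h8 _ h6 h7
      exact Subtype.ext (congrArg (fun n : N => (n : G)) (e.injective h4))
    rw [Fintype.card_fin] at hg
    calc _ ≤ (Nat.card (T i0) ^ orb π) ^ 3 := Nat.pow_le_pow_left h1 3
      _ = Nat.card (T i0) ^ (3 * orb π) := by rw [← pow_mul, mul_comm]
      _ ≤ Nat.card (T i0) ^ m := Nat.pow_le_pow_right Nat.card_pos hg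
      _ = Nat.card N := by
        rw [hcardN, Finset.prod_congr rfl (fun i _ => hq i), Finset.prod_const, Finset.card_univ, Fintype.card_fin]

end Red

/-- box REG -/
theorem reg_of_ev (hE : Ev) (hG : Gen) (hC : Cent) (hS : Sch) : Reg := by
  intro N H _ _ _ _ _ _ hna hirr
  -- the centre is trivial
  have hZ : center N = ⊥ := by
    refine (hirr (center N) ?_).resolve_right ?_
    · intro h w hw
      rw [mem_center_iff] at hw ⊢
      intro g
      have h1 := congrArg (fun x => h • x) (hw (h⁻¹ • g))
      simpa only [smul_mul', smul_inv_smul] using h1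
    · intro h
      exact hna ⟨⟨fun a b => (mem_center_iff.1 (by rw [h]; exact mem_top b) a)⟩⟩
  have hinj : Function.Injective (MulAut.conj : N →* MulAut N) := by
    rw [injective_iff_map_eq_one]
    intro a ha
    rw [← mem_bot, ← hZ, mem_center_iff]
    intro g
    have h1 : a * g * a⁻¹ = g := DFunLike.congr_fun ha g
    rw [mul_inv_eq_iff_eq_mul] at h1
    exact h1.symm
  have hcj : ∀ (σ : MulAut N) (n : N), σ * MulAut.conj n * σ⁻¹ = MulAut.conj (σ n) := by
    intro σ n
    ext x
    simp
  let N' : Subgroup (MulAut N) := (MulAut.conj : N →* MulAut N).range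
  have hN' : N'.Normal := ⟨by
    rintro _ ⟨n, rfl⟩ σ
    exact ⟨σ n, (hcj σ n).symm⟩⟩
  let φ : H →* MulAut N := MulDistribMulAction.toMulAut H N
  obtain ⟨_, ⟨h, rfl⟩, hh⟩ := Red.reg_in hE hG hC hS N' φ.range
    (by
      intro hc
      apply hna
      refine ⟨⟨fun a b => hinj ?_⟩⟩
      rw [map_mul, map_mul]
      exact hc _ ⟨a, rfl⟩ _ ⟨b, rfl⟩)
    (by
      intro σ hσ
      ext n
      apply hinj
      rw [← hcj, (hσ _ ⟨n, rfl⟩).eq, mul_inv_cancel_right]
      rfl)
    (by
      intro W hW hinv
      rcases hirr (W.comap (MulAut.conj : N →* MulAut N)) (by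
        intro h w hw
        have h1 := hinv (φ h) ⟨h, rfl⟩ _ hw
        rw [hcj] at h1
        exact h1) with h1 | h1
      · left
        rw [← map_comap_eq_self hW, h1, Subgroup.map_bot]
      · right
        rw [← map_comap_eq_self hW, h1, ← MonoidHom.range_eq_map])
  refine ⟨h, ?_⟩
  have h1 : Nat.card N' = Nat.card N := (Nat.card_congr (MonoidHom.ofInjective hinj).toEquiv).symm
  have h2 : Nat.card (fixedBy N h) ≤ Nat.card ↥(N' ⊓ centralizer ({φ h} : Set (MulAut N))) := by
    refine Nat.card_le_card_of_injective (fun n => ⟨MulAut.conj (n : N), ⟨n, rfl⟩, ?_⟩) ?_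
    · change _ ∈ centralizer _
      rw [mem_centralizer_singleton_iff, eq_comm, ← mul_inv_eq_iff_eq_mul, hcj]
      exact congrArg _ n.2
    · intro a b hab
      exact Subtype.ext (hinj (congrArg Subtype.val hab))
  rw [← h1]
  exact (Nat.pow_le_pow_left h2 3).trans hh

end Cfsg.Agent.FP3
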